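import Groth.Agent.CohAff.Classes
import Groth.Agent.CohLin.Basic
import Groth.Agent.CohTop.Flasque
import Mathlib.CategoryTheory.Abelian.Basic

/-!
If the cohomology of `M` on `X` is finite, and so is that of the higher direct images of `M` along
`f : X ⟶ Y`, then the cohomology of `f_* M` is finite (descending along a flasque resolution; this
replaces the Leray spectral sequence).
-/

universe u

open CategoryTheory Limits Opposite TopologicalSpace AlgebraicGeometry
open Groth.Agent.CohAff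

noncomputable section

namespace Groth.Agent.ProperFin

variable {X Y : Scheme.{u}}

theorem resTop_top (r : Coh.Γtop X) : Coh.resTop X (op (⊤ : X.Opens)) r = r :=
  QCoh.rres_self (le_refl (⊤ : X.Opens)) (show Γ(X, ⊤) from r)

/-- global sections of the underlying abelian sheaf -/
def h0Sec (M : X.Modules) : Coh.HH X M 0 ≃+ Γ(M, ⊤) :=
  Sheaf.H.equiv₀ (Coh.toAb M) Limits.isTerminalTop

theorem h0Sec_hMap {M N : X.Modules} (φ : M ⟶ N) (x : Coh.HH X M 0) :
    h0Sec N (CohLin.hMap φ 0 x) = φ.app ⊤ (h0Sec M x) :=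
  (Sheaf.H.equiv₀_naturality (f := CohLin.abMap φ) (hT := Limits.isTerminalTop) x).symm

theorem h0Sec_smul (M : X.Modules) (r : Coh.Γtop X) (x : Coh.HH X M 0) :
    h0Sec M (r • x) = (show Γ(X, ⊤) from r) • h0Sec M x := by
  refine ((Sheaf.H.equiv₀_naturality (f := Coh.smulAb M r) (hT := Limits.isTerminalTop) x).symm).trans ?_
  exact congrArg (fun t => (show Γ(X, ⊤) from t) • h0Sec M x) (resTop_top r)

theorem hMap_zero_injective {M N : X.Modules} (φ : M ⟶ N) [Mono φ] :
    Function.Injective (CohLin.hMap φ 0) := fun x y h => (h0Sec M).injective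
  (QCoh.app_injective_of_mono φ ⊤ (by rw [← h0Sec_hMap, ← h0Sec_hMap, h]))

theorem subsingleton_of_flasque {M : X.Modules}
    (h : TopCat.Sheaf.IsFlasque (X := X.toTopCat) (Coh.toAb M)) (n : ℕ) :
    Subsingleton (Coh.HH X M (n + 1)) :=
  @CohTop.Flasque.H_subsingleton X.toTopCat (Coh.toAb M) h n

variable (f : X ⟶ Y) (R : FRes X)

/-- the image of the differential pushed forward -/
abbrev Img (k : ℕ) : Y.Modules := Abelian.image (R.pP f k)

theorem seq₁_w (k : ℕ) :
    (Scheme.Modules.pushforward f).map (R.ι k) ≫ Abelian.factorThruImage (R.pP f k) = 0 := by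
  rw [← cancel_mono (Abelian.image.ι (R.pP f k)), Category.assoc, Abelian.image.fac, zero_comp,
    FRes.pP, ← Functor.map_comp, R.w, Functor.map_zero]

/-- `0 ⟶ f_* Z^k ⟶ f_* J^k ⟶ I^k ⟶ 0` -/
abbrev seq₁ (k : ℕ) : ShortComplex Y.Modules :=
  ShortComplex.mk _ _ (seq₁_w f R k)

theorem seq₁_shortExact (k : ℕ) : (seq₁ f R k).ShortExact := by
  have := (R.exact k).mono_f
  have hm : Mono ((Scheme.Modules.pushforward f).map (R.ι k)) := inferInstance
  have h : ((ShortComplex.mk (R.ι k) (R.p k) (R.w k)).map (Scheme.Modules.pushforward f)).Exact :=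
    (R.exact k).exact.map_of_mono_of_preservesKernel _ ‹_› inferInstance
  let α : seq₁ f R k ⟶ (ShortComplex.mk (R.ι k) (R.p k) (R.w k)).map (Scheme.Modules.pushforward f) :=
    { τ₁ := 𝟙 _
      τ₂ := 𝟙 _
      τ₃ := Abelian.image.ι (R.pP f k)
      comm₁₂ := (Category.id_comp _).trans (Category.comp_id _).symm
      comm₂₃ := (Category.id_comp _).trans (Abelian.image.fac _).symm }
  have : Epi α.τ₁ := inferInstanceAs (Epi (𝟙 _))
  have : IsIso α.τ₂ := inferInstanceAs (IsIso (𝟙 _))
  have : Mono α.τ₃ := inferInstanceAs (Mono (Abelian.image.ι (R.pP f k)))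
  exact ShortComplex.ShortExact.mk' ((ShortComplex.exact_iff_of_epi_of_isIso_of_mono α).2 h) hm
    inferInstance

/-- `0 ⟶ I^k ⟶ f_* Z^(k+1) ⟶ R^(k+1) f_* ⟶ 0` -/
abbrev seq₂ (k : ℕ) : ShortComplex Y.Modules :=
  ShortComplex.mk (Abelian.image.ι (R.pP f k)) (cokernel.π (R.pP f k)) (kernel.condition _)

theorem seq₂_shortExact (k : ℕ) : (seq₂ f R k).ShortExact :=
  ShortComplex.ShortExact.mk' (ShortComplex.exact_kernel (cokernel.π (R.pP f k)))
    (inferInstanceAs (Mono (kernel.ι (cokernel.π (R.pP f k)))))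
    (inferInstanceAs (Epi (cokernel.π (R.pP f k))))

variable {A : Type u} [CommRing A] [X.Over (Spec (CommRingCat.of A))]
  [Y.Over (Spec (CommRingCat.of A))]
  (w : f ≫ (Y ↘ Spec (CommRingCat.of A)) = X ↘ Spec (CommRingCat.of A))

/-- global sections of `f_* Z^k`, as sections on `X` -/
def secPush (k : ℕ) :
    Coh.HH Y ((Scheme.Modules.pushforward f).obj (R.Z k)) 0 →+ Γ(R.Z k, ⊤) :=
  (h0Sec ((Scheme.Modules.pushforward f).obj (R.Z k))).toAddMonoidHom

/-- global sections of `f_* Z^k` as classes on `X` -/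
def sect (w : f ≫ (Y ↘ Spec (CommRingCat.of A)) = X ↘ Spec (CommRingCat.of A)) (k : ℕ) :
    Coh.HH Y ((Scheme.Modules.pushforward f).obj (R.Z k)) 0 →ₗ[A] Coh.HH X (R.Z 0) k where
  toFun x := R.clsTop k (secPush f R k x)
  map_add' x y := (congrArg (R.clsTop k) (map_add (secPush f R k) x y)).trans (map_add _ _ _)
  map_smul' a x := by
    have h1 : secPush f R k (a • x) =
        (show Γ(X, ⊤) from Coh.toGlobal (X ↘ Spec (CommRingCat.of A)) a) • secPush f R k x := by
      rw [← w]
      exact h0Sec_smul _ (Coh.toGlobal (Y ↘ Spec (CommRingCat.of A)) a) x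
    exact (congrArg (R.clsTop k) h1).trans (R.clsTop_smul k _ _)

theorem exists_eq_hMap_of_sect_eq_zero (k : ℕ)
    (x : Coh.HH Y ((Scheme.Modules.pushforward f).obj (R.Z (k + 1))) 0)
    (hx : sect f R w (k + 1) x = 0) :
    ∃ a : Coh.HH Y ((Scheme.Modules.pushforward f).obj (R.J k)) 0,
      CohLin.hMap (R.pP f k) 0 a = x := by
  obtain ⟨b, hb⟩ := (R.clsTop_eq_zero_iff (k + 1) _).1 hx
  refine ⟨(h0Sec _).symm b, (h0Sec _).injective ?_⟩
  rw [h0Sec_hMap]
  exact (congrArg ((R.pP f k).app ⊤)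
    ((h0Sec ((Scheme.Modules.pushforward f).obj (R.J k))).apply_symm_apply b)).trans hb

include w in
theorem finite_push_of_finite_Rc [IsNoetherianRing A]
    (hX : ∀ n, Module.Finite A (Coh.HH X (R.Z 0) n))
    (hRc : ∀ k p, Module.Finite A (Coh.HH Y (R.Rc f k) p)) (p : ℕ) :
    Module.Finite A (Coh.HH Y ((Scheme.Modules.pushforward f).obj (R.Z 0)) p) := by
  rcases p with _ | p
  · have := hX 0
    refine Module.Finite.of_injective (sect f R w 0) fun x y h => ?_
    have h0 : sect f R w 0 (x - y) = 0 := by rw [map_sub, h, sub_self]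
    have h1 := (R.clsTop_eq_zero_iff 0 _).1 h0
    exact sub_eq_zero.1 ((h0Sec _).injective (h1.trans (map_zero _).symm))
  suffices H : ∀ k, Module.Finite A (Coh.HH Y ((Scheme.Modules.pushforward f).obj (R.Z k)) (p + 1))
    from H 0
  induction p with
  | zero =>
    intro k
    have hS := seq₁_shortExact f R k
    let η : Coh.HH Y (Img f R k) 0 →ₗ[A] Coh.HH X (R.Z 0) (k + 1) :=
      (sect f R w (k + 1)).comp (CohLin.overLin A (CohLin.hMap (Abelian.image.ι (R.pP f k)) 0))
    let δ : Coh.HH Y (Img f R k) 0 →ₗ[A]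
        Coh.HH Y ((Scheme.Modules.pushforward f).obj (R.Z k)) 1 :=
      CohLin.overLin A (CohLin.hδ hS 0)
    have hker : LinearMap.ker η ≤ LinearMap.ker δ := fun x hx => by
      obtain ⟨a, ha⟩ := exists_eq_hMap_of_sect_eq_zero f R w k _ hx
      have e : CohLin.hMap (Abelian.factorThruImage (R.pP f k)) 0 a = x := by
        refine hMap_zero_injective (Abelian.image.ι (R.pP f k)) ?_
        rw [← CohLin.hMap_comp, Abelian.image.fac]
        exact ha
      rw [LinearMap.mem_ker, ← e]
      exact CohLin.hδ_hMap_g hS a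
    have hfl : TopCat.Sheaf.IsFlasque (X := Y.toTopCat)
        (Coh.toAb ((Scheme.Modules.pushforward f).obj (R.J k))) :=
      ModShf.isFlasque_of_surjective (X := Y.toTopCat) _ fun {V U} g ↦
        (AddCommGrpCat.epi_iff_surjective _).1 ((R.flasque k).epi ((Opens.map f.base).map g).op)
    have := subsingleton_of_flasque hfl 0
    have hsurj : Function.Surjective δ := fun y =>
      CohLin.exists_hδ_eq hS y (Subsingleton.elim _ _)
    have := hX (k + 1)
    have : Module.Finite A (Coh.HH Y (Img f R k) 0 ⧸ LinearMap.ker η) :=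
      Module.Finite.equiv η.quotKerEquivRange.symm
    refine Module.Finite.of_surjective ((LinearMap.ker η).liftQ δ hker) fun y => ?_
    obtain ⟨x, rfl⟩ := hsurj y
    exact ⟨Submodule.Quotient.mk x, rfl⟩
  | succ p ih =>
    intro k
    have : Module.Finite A (Coh.HH Y (seq₂ f R k).X₂ (p + 1)) := ih (k + 1)
    have : Module.Finite A (Coh.HH Y (seq₂ f R k).X₃ p) := hRc k p
    have : Module.Finite A (Coh.HH Y (seq₁ f R k).X₃ (p + 1)) :=
      CohLin.finite_X₁ (seq₂_shortExact f R k) A
    have hfl : TopCat.Sheaf.IsFlasque (X := Y.toTopCat)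
        (Coh.toAb ((Scheme.Modules.pushforward f).obj (R.J k))) :=
      ModShf.isFlasque_of_surjective (X := Y.toTopCat) _ fun {V U} g ↦
        (AddCommGrpCat.epi_iff_surjective _).1 ((R.flasque k).epi ((Opens.map f.base).map g).op)
    have : Subsingleton (Coh.HH Y (seq₁ f R k).X₂ (p + 1 + 1)) := subsingleton_of_flasque hfl _
    exact CohLin.finite_X₁ (seq₁_shortExact f R k) A

end Groth.Agent.ProperFin
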