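import Groth.Agent.CohDev.Coh
import Groth.Agent.QCoh.Qcqs
import Mathlib.AlgebraicGeometry.Morphisms.Finite

/-!
Direct images of coherent modules along finite morphisms are coherent.
-/

universe u

open CategoryTheory AlgebraicGeometry

namespace Groth.Agent.ProperFin

theorem isCoh_push_of_isFinite {X Y : Scheme.{u}} (f : X ⟶ Y) [IsFinite f] (M : X.Modules)
    (hM : Coh.IsCoh M) : Coh.IsCoh ((Coh.push f).obj M) := by
  have := hM.1
  have := QCoh.isQuasicoherent_pushforward f M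
  refine ⟨this, (QCoh.isFiniteType_iff _).2 fun V hV => ?_⟩
  have h1 : Module.Finite Γ(X, f ⁻¹ᵁ V) Γ(M, f ⁻¹ᵁ V) :=
    @QCoh.finite_sections_of_isFiniteType X M hM.1 hM.2 _ (hV.preimage f)
  let : Algebra Γ(Y, V) Γ(X, f ⁻¹ᵁ V) := (f.app V).hom.toAlgebra
  have h2 : Module.Finite Γ(Y, V) Γ(X, f ⁻¹ᵁ V) := f.finite_app V hV
  let : Module Γ(Y, V) Γ(M, f ⁻¹ᵁ V) := Module.compHom _ (f.app V).hom
  have : IsScalarTower Γ(Y, V) Γ(X, f ⁻¹ᵁ V) Γ(M, f ⁻¹ᵁ V) :=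
    ⟨fun a b x => mul_smul ((f.app V).hom a) b x⟩
  exact Module.Finite.trans (R := Γ(Y, V)) Γ(X, f ⁻¹ᵁ V) Γ(M, f ⁻¹ᵁ V)

end Groth.Agent.ProperFin
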