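import Groth.Prelude.Def_CohB1
import Groth.Agent.RelProjLib.AwayBaseChange
import Groth.Agent.RelProjLib.ProjMap
import Mathlib.RingTheory.TensorProduct.MvPolynomial
import Mathlib.AlgebraicGeometry.Pullbacks

/-!
Base change of projective space: `P^n_B = P^n_A ×_A Spec B`, and `P^n` over `Spec A` is `P^n_A`.
-/

noncomputable section

universe u

open CategoryTheory CategoryTheory.Limits AlgebraicGeometry
open scoped HomogeneousIdeal

namespace Groth.Agent.ProperFin

open RelProjLib

variable (n : ℕ) {A B : Type u} [CommRing A] [CommRing B] (φ : A →+* B)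

/-- Change of coefficients, as a graded ring map. -/
def mapGr : CohB1.polyGrading n A →+*ᵍ CohB1.polyGrading n B where
  toRingHom := MvPolynomial.map φ
  map_mem {_ _} hp := MvPolynomial.IsHomogeneous.map hp φ

theorem C_mem (a : A) : MvPolynomial.C a ∈ CohB1.polyGrading n A 0 :=
  MvPolynomial.isHomogeneous_C _ a

theorem isPushout_map :
    IsPushout (CommRingCat.ofHom φ)
      (CommRingCat.ofHom (MvPolynomial.C : A →+* MvPolynomial (Fin (n + 1)) A))
      (CommRingCat.ofHom (MvPolynomial.C : B →+* MvPolynomial (Fin (n + 1)) B))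
      (CommRingCat.ofHom (mapGr n φ).toRingHom) := by
  let : Algebra A B := φ.toAlgebra
  let : Algebra (MvPolynomial (Fin (n + 1)) A) (MvPolynomial (Fin (n + 1)) B) :=
    MvPolynomial.algebraMvPolynomial
  exact CommRingCat.isPushout_of_isPushout A B (MvPolynomial (Fin (n + 1)) A)
    (MvPolynomial (Fin (n + 1)) B)

theorem irrelevant_le : (CohB1.polyGrading n B)₊ ≤ (CohB1.polyGrading n A)₊.map (mapGr n φ) :=
  irrelevant_le_map_of_isPushout (mapGr n φ) φ MvPolynomial.C MvPolynomial.C (C_mem n)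
    (isPushout_map n φ)

/-- `P^n_B ⟶ P^n_A`. -/
def pnMap : CohB1.ProjSpace n B ⟶ CohB1.ProjSpace n A :=
  Proj.map (mapGr n φ) (irrelevant_le n φ)

theorem awayι_toSpec {d : ℕ} (f : MvPolynomial (Fin (n + 1)) A)
    (hf : f ∈ CohB1.polyGrading n A d) (hd : 0 < d) :
    Proj.awayι (CohB1.polyGrading n A) f hf hd ≫ CohB1.ProjSpace.toSpec n A =
      Spec.map (CommRingCat.ofHom (zeroToAway MvPolynomial.C (C_mem n) f)) := by
  refine (Proj.awayι_toSpecZero_assoc (CohB1.polyGrading n A) f hf hd
    (Spec.map (CommRingCat.ofHom (algebraMap A (CohB1.polyGrading n A 0))))).trans ?_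
  rw [← Spec.map_comp]
  rfl

theorem irrelevant_le_span :
    (CohB1.polyGrading n A)₊.toIdeal ≤
      Ideal.span (Set.range (MvPolynomial.X : Fin (n + 1) → MvPolynomial (Fin (n + 1)) A)) := by
  intro p hp
  rw [show (Set.range (MvPolynomial.X : Fin (n + 1) → MvPolynomial (Fin (n + 1)) A)) =
    MvPolynomial.X '' Set.univ from Set.image_univ.symm, MvPolynomial.mem_ideal_span_X_image]
  intro m hm
  by_contra h
  push Not at h
  have hm0 : m = 0 := Finsupp.ext fun i => h i trivial
  subst hm0
  rw [MvPolynomial.mem_support_iff] at hm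
  apply hm
  have h0 := (HomogeneousIdeal.mem_irrelevant_iff _ _).mp hp
  rw [GradedRing.proj_apply] at h0
  have h1 : ((DirectSum.decompose (CohB1.polyGrading n A) p 0 : _) : MvPolynomial (Fin (n + 1)) A) =
      MvPolynomial.homogeneousComponent 0 p := MvPolynomial.decomposition.decompose'_apply _ _
  rw [h1] at h0
  have h2 := congrArg (MvPolynomial.coeff 0) h0
  simpa [MvPolynomial.coeff_homogeneousComponent] using h2

theorem isPullback_pnMap :
    IsPullback (pnMap n φ) (CohB1.ProjSpace.toSpec n B) (CohB1.ProjSpace.toSpec n A)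
      (Spec.map (CommRingCat.ofHom φ)) := by
  refine Scheme.isPullback_of_openCover _ _ _ _
    (Proj.affineOpenCoverOfIrrelevantLESpan (CohB1.polyGrading n A) MvPolynomial.X
      (fun i => MvPolynomial.isHomogeneous_X A i) (fun _ => one_pos)
      (irrelevant_le_span n)).openCover fun i => ?_
  let x : MvPolynomial (Fin (n + 1)) A := MvPolynomial.X i
  have hx : x ∈ CohB1.polyGrading n A 1 := MvPolynomial.isHomogeneous_X A i
  let ιA : Spec (CommRingCat.of (HomogeneousLocalization.Away (CohB1.polyGrading n A) x)) ⟶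
      CohB1.ProjSpace n A := Proj.awayι (CohB1.polyGrading n A) x hx one_pos
  let ιB : Spec (CommRingCat.of (HomogeneousLocalization.Away (CohB1.polyGrading n B)
      (mapGr n φ x))) ⟶ CohB1.ProjSpace n B := Proj.awayι (CohB1.polyGrading n B) (mapGr n φ x) ((mapGr n φ).2 hx) one_pos
  let g := Spec.map (CommRingCat.ofHom (HomogeneousLocalization.Away.map (mapGr n φ) x))
  have : IsOpenImmersion ιA :=
    inferInstanceAs (IsOpenImmersion (Proj.awayι (CohB1.polyGrading n A) x hx one_pos))
  have : IsOpenImmersion ιB := inferInstanceAs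
    (IsOpenImmersion (Proj.awayι (CohB1.polyGrading n B) (mapGr n φ x) ((mapGr n φ).2 hx) one_pos))
  have sq : IsPullback g ιB ιA (pnMap n φ) := by
    refine IsOpenImmersion.isPullback g ιB ιA (pnMap n φ) ?_ ?_
    · exact Proj.awayι_comp_map (mapGr n φ) (irrelevant_le n φ) one_pos x hx
    · have hA : ιA.opensRange = Proj.basicOpen (CohB1.polyGrading n A) x :=
        Proj.opensRange_awayι (CohB1.polyGrading n A) x hx one_pos
      have hB : ιB.opensRange = Proj.basicOpen (CohB1.polyGrading n B) (mapGr n φ x) :=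
        Proj.opensRange_awayι (CohB1.polyGrading n B) (mapGr n φ x) ((mapGr n φ).2 hx) one_pos
      rw [hA, hB]
      exact Proj.map_preimage_basicOpen (mapGr n φ) (irrelevant_le n φ) x
  have big : IsPullback g (ιB ≫ CohB1.ProjSpace.toSpec n B) (ιA ≫ CohB1.ProjSpace.toSpec n A)
      (Spec.map (CommRingCat.ofHom φ)) := by
    rw [show ιA ≫ CohB1.ProjSpace.toSpec n A = _ from awayι_toSpec n x hx one_pos,
      show ιB ≫ CohB1.ProjSpace.toSpec n B = _ from
        awayι_toSpec n (mapGr n φ x) ((mapGr n φ).2 hx) one_pos]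
    exact (isPullback_SpecMap_of_isPushout _ _ _ _
      (isPushout_away (mapGr n φ) φ MvPolynomial.C MvPolynomial.C (C_mem n) (C_mem n)
        (isPushout_map n φ) hx)).flip
  let e := sq.flip.isoPullback
  refine big.of_iso e (Iso.refl _) (Iso.refl _) (Iso.refl _) ?_ ?_ ?_ ?_
  · change g ≫ 𝟙 _ = e.hom ≫ pullback.snd (pnMap n φ) ιA
    rw [Category.comp_id]
    exact sq.flip.isoPullback_hom_snd.symm
  · change (ιB ≫ _) ≫ 𝟙 _ = e.hom ≫ pullback.fst (pnMap n φ) ιA ≫ _
    rw [Category.comp_id]
    exact (sq.flip.isoPullback_hom_fst_assoc _).symm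
  · change (ιA ≫ _) ≫ 𝟙 _ = 𝟙 _ ≫ ιA ≫ _
    rw [Category.comp_id, Category.id_comp]
  · rw [Iso.refl_hom, Category.comp_id, Iso.refl_hom, Category.id_comp]

/-- `P^n` over `Spec A` (the base change of `P^n_ℤ`) is `P^n_A`. -/
theorem exists_iso_projSpaceOver (n : ℕ) (A : Type u) [CommRing A] :
    ∃ e : CohB1.ProjSpaceOver n (Spec (CommRingCat.of A)) ≅ CohB1.ProjSpace n A,
      e.hom ≫ CohB1.ProjSpace.toSpec n A =
        CohB1.ProjSpaceOver.toBase n (Spec (CommRingCat.of A)) := by
  let φ : ULift.{u} ℤ →+* A := (Int.castRingHom A).comp (ULift.ringEquiv.toRingHom)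
  have hf : specULiftZIsTerminal.from (Spec (CommRingCat.of A)) =
      Spec.map (CommRingCat.ofHom φ) := specULiftZIsTerminal.hom_ext _ _
  have h : IsPullback (pnMap n φ) (CohB1.ProjSpace.toSpec n A)
      (CohB1.ProjSpace.toSpec n (ULift.{u} ℤ))
      (specULiftZIsTerminal.from (Spec (CommRingCat.of A))) := by
    rw [hf]
    exact isPullback_pnMap n φ
  exact ⟨h.isoPullback.symm, h.isoPullback_inv_snd⟩

end Groth.Agent.ProperFin
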