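import Groth.Agent.ProperFin.FinEx
import Groth.Agent.ProperFin.PnBase
import Groth.Agent.ProperFin.FiniteMap
import Groth.Agent.ProjTwist.Pn.Finite
import Groth.Agent.ProjProper.Basic
import Mathlib.AlgebraicGeometry.Morphisms.Immersion

/-!
Finiteness of cohomology of coherent modules on closed subschemes of `P^n_A`, and over the affine
opens of the base for morphisms factoring through an immersion into `P^n`.
-/

universe u

open CategoryTheory Limits Opposite TopologicalSpace AlgebraicGeometry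
open Groth.Agent.CohAff

noncomputable section

namespace Groth.Agent.ProperFin

local notation "rr" => Groth.Agent.QCoh.rres

theorem isCoh_restrict {U X : Scheme.{u}} (j : U ⟶ X) [IsOpenImmersion j] {M : X.Modules}
    (hM : Coh.IsCoh M) : Coh.IsCoh (M.restrict j) := by
  have := hM.1
  have hq : (M.restrict j).IsQuasicoherent := Scheme.Modules.isQuasicoherent_restrictFunctor j M
  refine ⟨hq, (QCoh.isFiniteType_iff _).2 fun W hW => ?_⟩
  obtain ⟨s, hs⟩ :=
    (@QCoh.finite_sections_of_isFiniteType X M hM.1 hM.2 _ (hW.image_of_isOpenImmersion j)).fg_top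
  let s' : Finset Γ(M.restrict j, W) := s
  refine ⟨⟨s', eq_top_iff.2 fun x _ => ?_⟩⟩
  have key : ∀ a : Γ(M, j ''ᵁ W), (show Γ(M.restrict j, W) from a) ∈
      Submodule.span Γ(U, W) (s' : Set Γ(M.restrict j, W)) := by
    intro a
    have ha : a ∈ Submodule.span Γ(X, j ''ᵁ W) (s : Set Γ(M, j ''ᵁ W)) := hs ▸ Submodule.mem_top
    induction ha using Submodule.span_induction with
    | mem a ha => exact Submodule.subset_span ha
    | zero => exact Submodule.zero_mem _
    | add a b _ _ ha hb => exact Submodule.add_mem _ ha hb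
    | smul c a _ ha =>
      exact (restrict_smul' j M c (show Γ(M.restrict j, W) from a)) ▸ Submodule.smul_mem _ _ ha
  exact key x

/-- finiteness for closed subschemes of `P^n_A` -/
theorem finite_of_closedImmersion {A : Type u} [CommRing A] [IsNoetherianRing A] {n : ℕ}
    {X : Scheme.{u}} [X.Over (Spec (CommRingCat.of A))] (i : X ⟶ CohB1.ProjSpace n A)
    [IsClosedImmersion i]
    (hi : i ≫ CohB1.ProjSpace.toSpec n A = X ↘ Spec (CommRingCat.of A))
    (M : X.Modules) (hM : Coh.IsCoh M) (k : ℕ) : Module.Finite A (Coh.HH X M k) := by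
  have := ProjTwist.Pn.isLocallyNoetherian_projSpace n A
  have := hM.1
  exact (finite_push_iff i hi M k).1
    (ProjTwist.Pn.finite_cohomology _ (isCoh_push_of_isFinite i M hM) k)

theorem isClosedImmersion_of_isProper {X Y : Scheme.{u}} (h : X ⟶ Y) [IsImmersion h] [IsProper h] :
    IsClosedImmersion h :=
  IsClosedImmersion.of_isPreimmersion h h.isClosedMap.isClosed_range

theorem map_map_apply {C : Type*} [Category C] [Quiver.IsThin C] (F : C ⥤ CommRingCat.{u})
    {a b c : C} (f : a ⟶ b) (g : b ⟶ c) (h : a ⟶ c) (y : F.obj a) :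
    F.map g (F.map f y) = F.map h y := by
  rw [← ConcreteCategory.comp_apply, ← Functor.map_comp, Subsingleton.elim (f ≫ g) h]

theorem glob_opens {X Z : Scheme.{u}} (π : X ⟶ Z) {V : Z.Opens} (hV : IsAffineOpen V)
    (e : (π ⁻¹ᵁ V).ι ''ᵁ ⊤ ≤ π ⁻¹ᵁ V) (b : Γ(Z, V)) :
    Coh.toGlobal (A := Γ(Z, V)) ((π ∣_ V) ≫ hV.isoSpec.hom) b =
      ((π ⁻¹ᵁ V).ι.appIso ⊤).hom (rr e (π.app V b)) := by
  have h1 : hV.isoSpec.hom.appTop ((Scheme.ΓSpecIso Γ(Z, V)).inv b) = V.topIso.inv b := by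
    rw [hV.isoSpec_hom_appTop]
    exact congrArg V.topIso.inv
      ((Scheme.ΓSpecIso Γ(Z, V)).inv_hom_id_apply b)
  change (π ∣_ V).appTop (hV.isoSpec.hom.appTop ((Scheme.ΓSpecIso Γ(Z, V)).inv b)) = _
  rw [h1, morphismRestrict_appTop]
  refine (congrArg (X.presheaf.map _)
    (congr($(π.naturality (eqToHom V.ι_image_top).op) b))).trans ?_
  rw [Scheme.Opens.ι_appIso]
  change X.presheaf.map _ (X.presheaf.map _ (π.app V b)) = rr e (π.app V b)
  exact map_map_apply X.presheaf _ _ _ (π.app V b)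

/-- cohomology of a coherent module over the affine opens of the base is finite, for a proper
morphism whose source is immersed in `P^n` -/
theorem finEx_of_immersion {A : Type u} [CommRing A] [IsNoetherianRing A] {n : ℕ}
    {X Z : Scheme.{u}} [IsLocallyNoetherian Z] (π : X ⟶ Z) [IsProper π]
    (g : Z ⟶ Spec (CommRingCat.of A)) (j : X ⟶ CohB1.ProjSpace n A) [IsImmersion j]
    (hj : j ≫ CohB1.ProjSpace.toSpec n A = π ≫ g)
    (R : FRes X) (hR : Coh.IsCoh (R.Z 0)) {V : Z.Opens} (hV : IsAffineOpen V) (k : ℕ) :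
    FinEx R k (π ⁻¹ᵁ V) (π.app V).hom := by
  have : IsNoetherianRing Γ(Z, V) := IsLocallyNoetherian.component_noetherian ⟨V, hV⟩
  obtain ⟨φ', hφ'⟩ := Spec.map_surjective (hV.fromSpec ≫ g)
  let φ : A →+* Γ(Z, V) := φ'.hom
  let q : ((π ⁻¹ᵁ V : X.Opens) : Scheme.{u}) ⟶ Spec Γ(Z, V) := (π ∣_ V) ≫ hV.isoSpec.hom
  have hq : q ≫ hV.fromSpec = (π ⁻¹ᵁ V).ι ≫ π := by
    rw [Category.assoc, hV.isoSpec_hom_fromSpec, morphismRestrict_ι]
  have w : ((π ⁻¹ᵁ V).ι ≫ j) ≫ CohB1.ProjSpace.toSpec n A =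
      q ≫ Spec.map (CommRingCat.ofHom φ) := by
    rw [Category.assoc, hj, ← reassoc_of% hq, ← hφ']
    rfl
  let h := (isPullback_pnMap n φ).lift ((π ⁻¹ᵁ V).ι ≫ j) q w
  have h1 : h ≫ pnMap n φ = (π ⁻¹ᵁ V).ι ≫ j := (isPullback_pnMap n φ).lift_fst _ _ _
  have h2 : h ≫ CohB1.ProjSpace.toSpec n Γ(Z, V) = q := (isPullback_pnMap n φ).lift_snd _ _ _
  have : IsImmersion (h ≫ pnMap n φ) := by rw [h1]; infer_instance
  have : IsImmersion h := IsImmersion.of_comp h (pnMap n φ)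
  have := ProjProper.Basic.isProper_toSpec n Γ(Z, V)
  have : IsProper q := inferInstanceAs (IsProper ((π ∣_ V) ≫ hV.isoSpec.hom))
  have : IsProper (h ≫ CohB1.ProjSpace.toSpec n Γ(Z, V)) := by rw [h2]; infer_instance
  have : IsProper h := IsProper.of_comp h (CohB1.ProjSpace.toSpec n Γ(Z, V))
  have := isClosedImmersion_of_isProper h
  let : ((π ⁻¹ᵁ V : X.Opens) : Scheme.{u}).Over (Spec (CommRingCat.of Γ(Z, V))) := ⟨q⟩
  let R' := R.restrict (π ⁻¹ᵁ V).ι
  have hfin : Module.Finite Γ(Z, V) (Coh.HH _ (R'.Z 0) k) :=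
    finite_of_closedImmersion h h2 (R'.Z 0) (isCoh_restrict _ hR) k
  have e : (π ⁻¹ᵁ V).ι ''ᵁ ⊤ = π ⁻¹ᵁ V := (π ⁻¹ᵁ V).ι_image_top
  have h3 : FinEx R' k ⊤ ((((π ⁻¹ᵁ V).ι.appIso ⊤).hom).hom.comp ((rr e.le).hom.comp (π.app V).hom)) :=
    (@finEx_of_finite_HH _ Γ(Z, V) _ _ R' k hfin).congr fun b => glob_opens π hV e.le b
  refine (((finEx_restrict_iff _ R k ⊤ _).1 h3).of_eq e.symm).congr fun b => ?_
  exact (QCoh.rres_rres e.le e.ge _).trans (QCoh.rres_self _ _)

end Groth.Agent.ProperFin
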