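import Groth.Agent.ProperFin.FinEx
import Groth.Agent.ClUnit.Basic
import Groth.Agent.AssSch.Structure
import Groth.Prelude.Def_ClSub2
import Groth.Prelude.Def_CohB1

/-!
Supports of higher direct images and of direct images along closed immersions.
-/

universe u

open CategoryTheory Limits Opposite TopologicalSpace AlgebraicGeometry
open Groth.Agent.CohAff Groth.Agent.PullStalk.Sky Groth.Agent.PullStalk.Basic

noncomputable section

namespace Groth.Agent.ProperFin

local notation "rs" => Groth.Agent.QCoh.res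

theorem isCoh_structureModule (X : Scheme.{u}) : Coh.IsCoh (Coh.structureModule X) := by
  have := AssSch.Structure.isQuasicoherent_structure X
  refine ⟨this, (QCoh.isFiniteType_iff _).2 fun U _ => ?_⟩
  exact inferInstanceAs (Module.Finite Γ(X, U) Γ(X, U))

variable {X Y : Scheme.{u}}

/-- `f` iso over `U` makes `f⁻¹V` affine for affine `V ≤ U` -/
theorem isAffineOpen_preimage_of_isIso (f : X ⟶ Y) (U : Y.Opens) [IsIso (f ∣_ U)] {V : Y.Opens}
    (hV : IsAffineOpen V) (hVU : V ≤ U) : IsAffineOpen (f ⁻¹ᵁ V) := by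
  have h1 : IsAffineOpen (U.ι ⁻¹ᵁ V) := hV.preimage_of_isOpenImmersion U.ι (by rwa [Scheme.Opens.opensRange_ι])
  have h2 := (h1.preimage (f ∣_ U)).image_of_isOpenImmersion (f ⁻¹ᵁ U).ι
  have e : (f ⁻¹ᵁ U).ι ''ᵁ ((f ∣_ U) ⁻¹ᵁ (U.ι ⁻¹ᵁ V)) = f ⁻¹ᵁ V := by
    rw [image_morphismRestrict_preimage, Scheme.Hom.image_preimage_eq_opensRange_inf,
      Scheme.Opens.opensRange_ι, inf_eq_right.mpr hVU]
  rwa [e] at h2

/-- higher direct images vanish where `f` is an isomorphism -/
theorem support_Rc_subset (f : X ⟶ Y) [IsSeparated f] [QuasiCompact f] (R : FRes X) [(R.Z 0).IsQuasicoherent]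
    (k : ℕ) (U : Y.Opens) [IsIso (f ∣_ U)] :
    CohB1.support (R.Rc f k) ⊆ (U : Set Y)ᶜ := by
  intro y hy hyU
  refine hy (subsingleton_of_forall_eq 0 fun t => ?_)
  obtain ⟨W, hyW, w, rfl⟩ := exists_germM_eq _ y t
  obtain ⟨_, ⟨V, hV, rfl⟩, hyV, hVW⟩ :=
    Y.isBasis_affineOpens.exists_subset_of_mem_open (show y ∈ W ⊓ U from ⟨hyW, hyU⟩) (W ⊓ U).2
  have hVW' : V ≤ W := fun z hz => (hVW hz).1
  obtain ⟨x, hx⟩ := R.π'_surjective f hV k (rs (R.Rc f k) hVW' w)
  have h0 : R.π' f k V x = 0 := R.π'_eq_zero_of_ex f k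
    (FRes.van_succ_of_isAffineOpen (R := R)
      (isAffineOpen_preimage_of_isIso f U hV fun z hz => (hVW hz).2) k x)
  refine ((R.Rc f k).presheaf.germ_res_apply (homOfLE hVW') y hyV w).symm.trans ?_
  exact (congrArg ((R.Rc f k).presheaf.germ V y hyV) (hx.symm.trans h0)).trans (map_zero _)

variable (i : X ⟶ Y) [IsClosedImmersion i]

/-- support of a direct image along a closed immersion -/
theorem support_push_subset (N : X.Modules) :
    CohB1.support ((Coh.push i).obj N) ⊆ i '' CohB1.support N := by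
  intro y hy
  by_cases h : y ∈ Set.range i
  · obtain ⟨z, rfl⟩ := h
    exact ⟨z, fun hs => hy
      (@Equiv.subsingleton _ _ (Equiv.ofBijective _ (ClUnit.stalkPushforward_bijective i N
        i.isClosedEmbedding.isInducing z)) hs), rfl⟩
  · refine absurd ?_ hy
    refine ClUnit.subsingleton_stalk_pushforward i N y
      ⟨(Set.range i)ᶜ, i.isClosedEmbedding.isClosed_range.isOpen_compl⟩ h ?_
    exact le_bot_iff.mp fun z hz => hz ⟨z, rfl⟩

theorem mem_support_push {N : X.Modules} {z : X} (hz : z ∈ CohB1.support N) :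
    i z ∈ CohB1.support ((Coh.push i).obj N) := fun hs => hz
  (@Equiv.subsingleton _ _ (Equiv.ofBijective _ (ClUnit.stalkPushforward_bijective i N
    i.isClosedEmbedding.isInducing z)).symm hs)

theorem killedByIdeal_push (I : Y.IdealSheafData) (N : I.subscheme.Modules) :
    ClSub.KilledByIdeal I ((Coh.push I.subschemeι).obj N) := by
  intro U a ha m
  have h1 : a ∈ I.subschemeι.ker.ideal U := by rwa [Scheme.IdealSheafData.ker_subschemeι]
  rw [Scheme.Hom.ker_apply, RingHom.mem_ker] at h1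
  exact (push_smul' I.subschemeι N a m).trans
    ((congrArg (· • (show Γ(N, I.subschemeι ⁻¹ᵁ U.1) from m)) h1).trans (zero_smul _ _))

/-- a surjective morphism has nonzero stalks in the direct image of the structure module -/
theorem mem_support_push_structure (f : X ⟶ Y) [Surjective f] (y : Y) :
    y ∈ CohB1.support ((Coh.push f).obj (Coh.structureModule X)) := by
  intro hs
  let P := (Coh.push f).obj (Coh.structureModule X)
  obtain ⟨W, hyW, i₁, i₂, e⟩ := P.presheaf.germ_eq y (show y ∈ (⊤ : Y.Opens) from trivial)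
    (show y ∈ (⊤ : Y.Opens) from trivial) (show Γ(X, f ⁻¹ᵁ ⊤) from 1) 0 (hs.elim _ _)
  obtain ⟨x, rfl⟩ := f.surjective y
  have h1 : (1 : Γ(X, f ⁻¹ᵁ W)) = 0 :=
    ((map_one (X.presheaf.map ((Opens.map f.base).map i₁).op).hom).symm.trans e).trans (map_zero _)
  exact one_ne_zero (α := X.presheaf.stalk x)
    ((map_one (X.presheaf.germ (f ⁻¹ᵁ W) x hyW).hom).symm.trans
      ((congrArg (X.presheaf.germ (f ⁻¹ᵁ W) x hyW) h1).trans (map_zero _)))

end Groth.Agent.ProperFin
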