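import Groth.Agent.S4458
import Groth.Agent.ProperFin.Supp
import Groth.Agent.ProperFin.Projective
import Groth.Agent.ProperFin.Descend
import Groth.Agent.RedSub.Basic

/-!
Finiteness of the cohomology of coherent modules on a scheme proper over a Noetherian ring, from
Chow's lemma.
-/

universe u

open CategoryTheory Limits Opposite TopologicalSpace AlgebraicGeometry
open Groth.Agent.CohAff

noncomputable section

namespace Groth.Agent.ProperFin

variable {A : Type u} [CommRing A] [IsNoetherianRing A] {X : Scheme.{u}}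
  [X.Over (Spec (CommRingCat.of A))]

/-- all cohomology of `M` is finite over `A` -/
def FinHH (A : Type u) [CommRing A] (X : Scheme.{u}) [X.Over (Spec (CommRingCat.of A))]
    (M : X.Modules) : Prop :=
  ∀ n, Module.Finite A (Coh.HH X M n)

instance : ObjectProperty.IsClosedUnderIsomorphisms (C := X.Modules) (FinHH A X) :=
  ⟨fun e h n => have := h n; CohLin.finite_of_iso A e⟩

theorem finHH_of_isZero {M : X.Modules} (h : IsZero M) : FinHH A X M := fun n => by
  have : Subsingleton (Coh.HH X M n) := ⟨fun x y => by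
    have hz : ∀ z : Coh.HH X M n, z = 0 := fun z => by
      rw [← CohLin.hMap_id M n z, h.eq_zero_of_src (𝟙 M)]
      exact (CohLin.hMapHom M M n z).map_zero
    rw [hz x, hz y]⟩
  exact Module.Finite.of_finite

theorem finHH_shortExact (S : ShortComplex X.Modules) (hS : S.ShortExact) :
    (FinHH A X S.X₁ → FinHH A X S.X₂ → FinHH A X S.X₃) ∧
      (FinHH A X S.X₁ → FinHH A X S.X₃ → FinHH A X S.X₂) ∧
        (FinHH A X S.X₂ → FinHH A X S.X₃ → FinHH A X S.X₁) := by
  refine ⟨fun h1 h2 n => ?_, fun h1 h3 n => ?_, fun h2 h3 n => ?_⟩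
  · have := h2 n; have := h1 (n + 1); exact CohLin.finite_X₃ hS A
  · have := h1 n; have := h3 n; exact CohLin.finite_X₂ hS A
  · rcases n with _ | n
    · have := h2 0
      refine Module.Finite.of_injective (CohLin.overLin A (CohLin.hMap S.f 0)) ?_
      have := hS.mono_f
      exact hMap_zero_injective S.f
    · have := h2 (n + 1); have := h3 n; exact CohLin.finite_X₁ hS A

theorem finHH_summand (M N : X.Modules) (i : N ⟶ M) (r : M ⟶ N) (h : i ≫ r = 𝟙 N)
    (hM : FinHH A X M) : FinHH A X N := fun n => by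
  have := hM n
  exact Module.Finite.of_surjective (CohLin.overLin A (CohLin.hMap r n)) fun x =>
    ⟨CohLin.hMap i n x, by rw [CohLin.overLin_apply, ← CohLin.hMap_comp, h, CohLin.hMap_id]⟩

/-- Chow's lemma over `Spec A`, as used here -/
def ChowOver (A : Type u) [CommRing A] : Prop :=
  ∀ (Z : Scheme.{u}) (f : Z ⟶ Spec (CommRingCat.of A)), IsProper f →
    ∃ (n : ℕ) (X' : Scheme.{u}) (π : X' ⟶ Z)
      (j : X' ⟶ CohB1.ProjSpaceOver n (Spec (CommRingCat.of A))),
      IsImmersion j ∧ j ≫ CohB1.ProjSpaceOver.toBase n (Spec (CommRingCat.of A)) = π ≫ f ∧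
        IsProper π ∧ Surjective π ∧ ∃ U : Z.Opens, Dense (U : Set Z) ∧ IsIso (π ∣_ U)

/-- finiteness on a scheme proper over `A`, given Chow's lemma -/
theorem finHH_of_chow (chow : ChowOver A) [IsProper (X ↘ Spec (CommRingCat.of A))]
    (M : X.Modules) (hM : Coh.IsCoh M) : FinHH A X M := by
  let str := X ↘ Spec (CommRingCat.of A)
  have : IsLocallyNoetherian X := LocallyOfFiniteType.isLocallyNoetherian str
  have : CompactSpace X := QuasiCompact.compactSpace_of_compactSpace str
  have : IsNoetherian X := ⟨⟩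
  suffices H : ∀ (T : Closeds X) (N : X.Modules), Coh.IsCoh N →
      CohB1.support N ⊆ T → FinHH A X N from H ⊤ M hM (Set.subset_univ _)
  intro T
  induction T using WellFoundedLT.induction with
  | _ T ih => ?_
  intro N hN hNT
  refine Groth.Agent.S4458.result X (FinHH A X) (fun _ => finHH_of_isZero)
    (fun S hS _ _ _ => finHH_shortExact S hS) (fun M N i r h _ _ => finHH_summand M N i r h) T
    T.isClosed (fun Z hZ hZirr hZT y hy => ?_) N hN hNT
  let I := Scheme.IdealSheafData.vanishingIdeal (⟨Z, hZ⟩ : Closeds X)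
  let ι : I.subscheme ⟶ X := I.subschemeι
  have hrange : Set.range ι = Z := RedSub.range_vanishingIdeal_subschemeι ⟨Z, hZ⟩
  have : IsProper (ι ≫ str) := inferInstance
  have : IsLocallyNoetherian I.subscheme := LocallyOfFiniteType.isLocallyNoetherian (ι ≫ str)
  let : I.subscheme.Over (Spec (CommRingCat.of A)) := ⟨ι ≫ str⟩
  obtain ⟨n, X', π, j₀, hj₀, hje, hπ, hsurj, U, hU, hiso⟩ := chow I.subscheme (ι ≫ str) ‹_›
  obtain ⟨e, he⟩ := exists_iso_projSpaceOver n A
  let j := j₀ ≫ e.hom
  have hj : j ≫ CohB1.ProjSpace.toSpec n A = π ≫ ι ≫ str := by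
    rw [Category.assoc, he, hje]
  have : IsImmersion j := inferInstance
  have := ProjProper.Basic.isProper_toSpec n A
  have : IsProper (j ≫ CohB1.ProjSpace.toSpec n A) := by rw [hj]; infer_instance
  have : IsProper j := IsProper.of_comp j (CohB1.ProjSpace.toSpec n A)
  have := isClosedImmersion_of_isProper j
  let : X'.Over (Spec (CommRingCat.of A)) := ⟨π ≫ ι ≫ str⟩
  have : IsLocallyNoetherian X' := LocallyOfFiniteType.isLocallyNoetherian (π ≫ ι ≫ str)
  have hM' : Coh.IsCoh (Coh.structureModule X') := isCoh_structureModule X'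
  let R := FRes.ofMod (Coh.structureModule X')
  have : (R.Z 0).IsQuasicoherent := hM'.1
  have hfin : ∀ V : I.subscheme.Opens, IsAffineOpen V → ∀ k,
      FinEx R k (π ⁻¹ᵁ V) (π.app V).hom := fun V hV k =>
    finEx_of_immersion π (ι ≫ str) j hj R hM' hV k
  -- the higher direct images live on a smaller closed subset
  have hy' : y ∈ Set.range ι := hrange.ge (hy.le (subset_closure rfl))
  obtain ⟨z, hz⟩ := hy'
  have hzU : z ∈ U := by
    have : Nonempty I.subscheme := ⟨z⟩
    obtain ⟨w, hw⟩ := hU.nonempty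
    have hwz : w ∈ closure ({z} : Set I.subscheme) := by
      rw [ι.isEmbedding.isInducing.closure_eq_preimage_closure_image, Set.mem_preimage,
        Set.image_singleton, hz, hy, ← hrange]
      exact ⟨w, rfl⟩
    obtain ⟨w', hw', rfl⟩ := mem_closure_iff.1 hwz U U.2 hw
    exact hw'
  let C : Closeds X :=
    ⟨ι '' (U : Set I.subscheme)ᶜ, ι.isClosedEmbedding.isClosedMap _ U.2.isClosed_compl⟩
  have hC : C < T := by
    refine lt_of_le_of_ne (fun x hx => ?_) fun h => ?_
    · obtain ⟨w, -, rfl⟩ := hx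
      exact hZT (hrange.le ⟨w, rfl⟩)
    · obtain ⟨w, hw, hw'⟩ : y ∈ C := h.symm ▸ hZT (hy.le (subset_closure rfl))
      exact hw (ι.isEmbedding.injective (hw'.trans hz.symm) ▸ hzU)
  have hRc : ∀ k p, Module.Finite A (Coh.HH I.subscheme (R.Rc π k) p) := fun k p => by
    have hc : Coh.IsCoh (R.Rc π k) := isCoh_Rc π R k fun V hV => hfin V hV (k + 1)
    have := hc.1
    exact (finite_push_iff ι rfl (R.Rc π k) p).1 (ih C hC _ (isCoh_push_of_isFinite ι _ hc)
      ((support_push_subset ι _).trans (Set.image_mono (support_Rc_subset π R k U))) p)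
  have hX' : ∀ k, Module.Finite A (Coh.HH X' (R.Z 0) k) :=
    finite_of_closedImmersion j hj _ hM'
  have hG : Coh.IsCoh ((Coh.push π).obj (R.Z 0)) := isCoh_push π R fun V hV => hfin V hV 0
  refine ⟨(Coh.push ι).obj ((Coh.push π).obj (R.Z 0)), isCoh_push_of_isFinite ι _ hG, fun p => ?_,
    ((support_push_subset ι _).trans ?_), killedByIdeal_push I _, ?_⟩
  · have := hG.1
    exact (finite_push_iff ι rfl _ p).2 (finite_push_of_finite_Rc π R rfl hX' hRc p)
  · rintro _ ⟨w, -, rfl⟩
    exact hrange.le ⟨w, rfl⟩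
  · rw [← hz]
    exact mem_support_push ι (mem_support_push_structure π z)

end Groth.Agent.ProperFin
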