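import Groth.Agent.CohAff.Classes
import Groth.Agent.CohAff.ResOps
import Groth.Agent.QCoh.FiniteType

/-!
Finiteness of cohomology on the level of cocycles, and its behaviour under affine direct image,
restriction to opens and passage to the model of higher direct images.
-/

universe u

open CategoryTheory Limits Opposite TopologicalSpace AlgebraicGeometry
open Groth.Agent.CohAff

noncomputable section

namespace Groth.Agent.ProperFin

local notation "rs" => Groth.Agent.QCoh.res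
local notation "rr" => Groth.Agent.QCoh.rres

variable {X Y : Scheme.{u}}

/-- The cocycles of degree `k` on `W` are finitely generated over `B` modulo coboundaries. -/
def FinEx (R : FRes X) (k : ℕ) (W : X.Opens) {B : Type u} [CommRing B] (ρ : B →+* Γ(X, W)) :
    Prop :=
  ∃ (m : ℕ) (s : Fin m → Γ(R.Z k, W)),
    ∀ z, ∃ c : Fin m → B, R.Ex k W (z - ∑ i, ρ (c i) • s i)

theorem FinEx.congr {R : FRes X} {k : ℕ} {W : X.Opens} {B : Type u} [CommRing B]
    {ρ ρ' : B →+* Γ(X, W)} (h : FinEx R k W ρ) (e : ∀ b, ρ b = ρ' b) : FinEx R k W ρ' := by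
  obtain rfl : ρ = ρ' := RingHom.ext e
  exact h

theorem FinEx.of_eq {R : FRes X} {k : ℕ} {W W' : X.Opens} {B : Type u} [CommRing B]
    {ρ : B →+* Γ(X, W)} (h : FinEx R k W ρ) (e : W' = W) :
    FinEx R k W' ((rr (le_of_eq e)).hom.comp ρ) := by
  subst e
  exact h.congr fun b => (QCoh.rres_self _ _).symm

theorem FinEx.comp_surjective {R : FRes X} {k : ℕ} {W : X.Opens} {B C : Type u} [CommRing B]
    [CommRing C] {ρ : C →+* Γ(X, W)} {φ : B →+* C} (h : FinEx R k W ρ)
    (hφ : Function.Surjective φ) : FinEx R k W (ρ.comp φ) := by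
  obtain ⟨m, s, hs⟩ := h
  refine ⟨m, s, fun z => ?_⟩
  obtain ⟨c, hc⟩ := hs z
  choose b hb using fun i => hφ (c i)
  exact ⟨b, by simpa only [RingHom.comp_apply, hb] using hc⟩

/-- `A → Γ(X, ⊤)` for `X` over `Spec A`. -/
def glob (A : Type u) [CommRing A] (X : Scheme.{u}) [X.Over (Spec (CommRingCat.of A))] :
    A →+* Γ(X, ⊤) :=
  Coh.toGlobal (X ↘ Spec (CommRingCat.of A))

theorem smul_eq_glob {A : Type u} [CommRing A] [X.Over (Spec (CommRingCat.of A))]
    (M : X.Modules) (n : ℕ) (a : A) (x : Coh.HH X M n) :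
    a • x = (show Coh.Γtop X from glob A X a) • x := rfl

theorem clsTop_sum {A : Type u} [CommRing A] [X.Over (Spec (CommRingCat.of A))]
    (R : FRes X) {k m : ℕ} (c : Fin m → A) (s : Fin m → Γ(R.Z k, ⊤)) :
    R.clsTop k (∑ i, glob A X (c i) • s i) = ∑ i, c i • R.clsTop k (s i) :=
  (map_sum _ _ _).trans (Finset.sum_congr rfl fun i _ =>
    R.clsTop_smul k (show Coh.Γtop X from glob A X (c i)) (s i))

theorem finite_HH_of_finEx {A : Type u} [CommRing A] [X.Over (Spec (CommRingCat.of A))]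
    (R : FRes X) (k : ℕ) (h : FinEx R k ⊤ (glob A X)) :
    Module.Finite A (Coh.HH X (R.Z 0) k) := by
  classical
  obtain ⟨m, s, hs⟩ := h
  refine ⟨⟨Finset.univ.image fun i => R.clsTop k (s i), eq_top_iff.2 fun x _ => ?_⟩⟩
  obtain ⟨z, rfl⟩ := R.clsTop_surjective k x
  obtain ⟨c, hc⟩ := hs z
  have h0 := (R.clsTop_eq_zero_iff k _).2 hc
  rw [map_sub, sub_eq_zero, clsTop_sum] at h0
  rw [h0, Finset.coe_image, Finset.coe_univ, Set.image_univ]
  exact (Submodule.mem_span_range_iff_exists_fun A).2 ⟨c, rfl⟩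

theorem finEx_of_finite_HH {A : Type u} [CommRing A] [X.Over (Spec (CommRingCat.of A))]
    (R : FRes X) (k : ℕ) [Module.Finite A (Coh.HH X (R.Z 0) k)] :
    FinEx R k ⊤ (glob A X) := by
  obtain ⟨m, x, hx⟩ := Module.Finite.exists_fin (R := A) (M := Coh.HH X (R.Z 0) k)
  choose s hs using fun i => R.clsTop_surjective k (x i)
  refine ⟨m, s, fun z => ?_⟩
  obtain ⟨c, hc⟩ := (Submodule.mem_span_range_iff_exists_fun A).1
    (hx.ge (Submodule.mem_top : R.clsTop k z ∈ ⊤))
  refine ⟨c, (R.clsTop_eq_zero_iff k _).1 ?_⟩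
  rw [map_sub, sub_eq_zero, clsTop_sum, ← hc]
  simp only [hs]

/-! ### affine direct image -/

variable (f : X ⟶ Y)

theorem push_smul' (M : X.Modules) {V : Y.Opens} (r : Γ(Y, V)) (x : Γ(M, f ⁻¹ᵁ V)) :
    (r • (show Γ((Scheme.Modules.pushforward f).obj M, V) from x)) =
      (show Γ((Scheme.Modules.pushforward f).obj M, V) from f.app V r • x) := rfl

theorem finEx_pushAff_iff [IsAffineHom f] (R : FRes X) [(R.Z 0).IsQuasicoherent] (k : ℕ)
    (V : Y.Opens) {B : Type u} [CommRing B] (σ : B →+* Γ(Y, V)) :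
    FinEx (R.pushAff f) k V σ ↔ FinEx R k (f ⁻¹ᵁ V) ((f.app V).hom.comp σ) := by
  constructor
  · rintro ⟨m, s, hs⟩
    refine ⟨m, s, fun z => ?_⟩
    obtain ⟨c, hc⟩ := hs z
    exact ⟨c, (R.ex_pushAff_iff f k V _).1 hc⟩
  · rintro ⟨m, s, hs⟩
    refine ⟨m, s, fun z => ?_⟩
    obtain ⟨c, hc⟩ := hs z
    exact ⟨c, (R.ex_pushAff_iff f k V _).2 hc⟩

theorem toGlobal_comp {A : Type u} [CommRing A] [X.Over (Spec (CommRingCat.of A))]
    [Y.Over (Spec (CommRingCat.of A))]
    (w : f ≫ (Y ↘ Spec (CommRingCat.of A)) = X ↘ Spec (CommRingCat.of A)) (a : A) :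
    f.app ⊤ (glob A Y a) = glob A X a := by
  rw [glob, glob, ← w]
  rfl

/-- finiteness of cohomology passes to and from the direct image along an affine morphism -/
theorem finite_push_iff [IsAffineHom f] {A : Type u} [CommRing A]
    [X.Over (Spec (CommRingCat.of A))] [Y.Over (Spec (CommRingCat.of A))]
    (w : f ≫ (Y ↘ Spec (CommRingCat.of A)) = X ↘ Spec (CommRingCat.of A))
    (M : X.Modules) [Coh.IsQCoh M] (k : ℕ) :
    Module.Finite A (Coh.HH Y ((Coh.push f).obj M) k) ↔ Module.Finite A (Coh.HH X M k) := by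
  let R := FRes.ofMod M
  have key : FinEx (R.pushAff f) k ⊤ (glob A Y) ↔ FinEx R k ⊤ (glob A X) := by
    refine (finEx_pushAff_iff f R k ⊤ (glob A Y)).trans ?_
    constructor
    · exact fun h => h.congr (toGlobal_comp f w)
    · exact fun h => h.congr fun a => (toGlobal_comp f w a).symm
  constructor
  · intro h
    exact finite_HH_of_finEx R k (key.1 (@finEx_of_finite_HH _ A _ _ (R.pushAff f) k h))
  · intro h
    exact finite_HH_of_finEx (R.pushAff f) k (key.2 (@finEx_of_finite_HH _ A _ _ R k h))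

/-! ### restriction to an open subscheme -/

theorem restrict_smul' (j : Y ⟶ X) [IsOpenImmersion j] (M : X.Modules) {V : Y.Opens}
    (r : Γ(X, j ''ᵁ V)) (x : Γ(M.restrict j, V)) :
    (show Γ(M, j ''ᵁ V) from (j.appIso V).hom r • x) = r • (show Γ(M, j ''ᵁ V) from x) := by
  refine (QCoh.restrict_smul j M ((j.appIso V).hom r) x).trans ?_
  rw [← ConcreteCategory.comp_apply, Iso.hom_inv_id, ConcreteCategory.id_apply]
  rfl

theorem ex_restrict_iff (j : Y ⟶ X) [IsOpenImmersion j] (R : FRes X) :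
    ∀ (k : ℕ) (V : Y.Opens) (z : Γ((R.restrict j).Z k, V)),
      (R.restrict j).Ex k V z ↔ R.Ex k (j ''ᵁ V) z
  | 0, _, _ => Iff.rfl
  | _ + 1, _, _ => Iff.rfl

theorem restrict_sub_sum (j : Y ⟶ X) [IsOpenImmersion j] (M : X.Modules) {V : Y.Opens}
    {m : ℕ} (z : Γ(M.restrict j, V)) (r : Fin m → Γ(X, j ''ᵁ V))
    (x : Fin m → Γ(M.restrict j, V)) :
    (show Γ(M, j ''ᵁ V) from z - ∑ i, (j.appIso V).hom (r i) • x i) =
      (show Γ(M, j ''ᵁ V) from z) - ∑ i, r i • (show Γ(M, j ''ᵁ V) from x i) :=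
  congrArg (fun t => (show Γ(M, j ''ᵁ V) from z) - t)
    (Finset.sum_congr rfl fun i _ => restrict_smul' j M (r i) (x i))

theorem finEx_restrict_iff (j : Y ⟶ X) [IsOpenImmersion j] (R : FRes X) (k : ℕ) (V : Y.Opens)
    {B : Type u} [CommRing B] (σ : B →+* Γ(X, j ''ᵁ V)) :
    FinEx (R.restrict j) k V ((j.appIso V).hom.hom.comp σ) ↔ FinEx R k (j ''ᵁ V) σ := by
  constructor
  · rintro ⟨m, s, hs⟩
    refine ⟨m, s, fun z => ?_⟩
    obtain ⟨c, hc⟩ := hs z
    exact ⟨c, (restrict_sub_sum j (R.Z k) z (fun i => σ (c i)) s) ▸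
      (ex_restrict_iff j R k V _).1 hc⟩
  · rintro ⟨m, s, hs⟩
    refine ⟨m, s, fun z => ?_⟩
    obtain ⟨c, hc⟩ := hs z
    exact ⟨c, (ex_restrict_iff j R k V _).2
      (Eq.mpr (congrArg (R.Ex k (j ''ᵁ V))
        (restrict_sub_sum j (R.Z k) z (fun i => σ (c i)) s)) hc)⟩

/-! ### the model of higher direct images -/

/-- finiteness of cohomology over affine opens makes the model of `R^(k+1) f_*` coherent -/
theorem isCoh_Rc [QuasiCompact f] [QuasiSeparated f] (R : FRes X) [(R.Z 0).IsQuasicoherent] (k : ℕ)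
    (h : ∀ V : Y.Opens, IsAffineOpen V → FinEx R (k + 1) (f ⁻¹ᵁ V) (f.app V).hom) :
    Coh.IsCoh (R.Rc f k) := by
  classical
  have := R.isQuasicoherent_Rc f k
  refine ⟨this, (QCoh.isFiniteType_iff _).2 fun V hV => ?_⟩
  obtain ⟨m, s, hs⟩ := h V hV
  refine ⟨⟨Finset.univ.image fun i => R.π' f k V (s i), eq_top_iff.2 fun x _ => ?_⟩⟩
  obtain ⟨z, rfl⟩ := R.π'_surjective f hV k x
  obtain ⟨c, hc⟩ := hs z
  have h0 := R.π'_eq_zero_of_ex f k hc
  rw [map_sub, sub_eq_zero, map_sum] at h0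
  rw [h0, Finset.coe_image, Finset.coe_univ, Set.image_univ]
  exact (Submodule.mem_span_range_iff_exists_fun Γ(Y, V)).2
    ⟨c, Finset.sum_congr rfl fun i _ => (R.π'_smul f k (c i) (s i)).symm⟩

/-- finiteness of sections over affine opens makes the direct image coherent -/
theorem isCoh_push [QuasiCompact f] [QuasiSeparated f] (R : FRes X) [(R.Z 0).IsQuasicoherent]
    (h : ∀ V : Y.Opens, IsAffineOpen V → FinEx R 0 (f ⁻¹ᵁ V) (f.app V).hom) :
    Coh.IsCoh ((Coh.push f).obj (R.Z 0)) := by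
  classical
  have := QCoh.isQuasicoherent_pushforward f (R.Z 0)
  refine ⟨this, (QCoh.isFiniteType_iff _).2 fun V hV => ?_⟩
  obtain ⟨m, s, hs⟩ := h V hV
  refine ⟨⟨Finset.univ.image fun i => (show Γ((Coh.push f).obj (R.Z 0), V) from s i),
    eq_top_iff.2 fun x _ => ?_⟩⟩
  obtain ⟨c, hc⟩ := hs x
  rw [Finset.coe_image, Finset.coe_univ, Set.image_univ]
  exact (Submodule.mem_span_range_iff_exists_fun Γ(Y, V)).2 ⟨c, (sub_eq_zero.1 hc).symm⟩

end Groth.Agent.ProperFin
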