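import Groth.Agent.ProperFin.Main
import Groth.Agent.CohAff.RcIso

/-!
Coherence of higher direct images of proper morphisms, from Chow's lemma over affine bases.
-/

universe u

open CategoryTheory Limits Opposite TopologicalSpace AlgebraicGeometry
open Groth.Agent.CohAff

noncomputable section

namespace Groth.Agent.ProperFin

local notation "rr" => Groth.Agent.QCoh.rres

variable {X S : Scheme.{u}}

/-- finiteness of cohomology over the affine opens of the base -/
theorem finEx_of_proper (chow : ∀ (B : Type u) [CommRing B] [IsNoetherianRing B], ChowOver B)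
    [IsLocallyNoetherian S] (f : X ⟶ S) [IsProper f] (R : FRes X) (hR : Coh.IsCoh (R.Z 0))
    {V : S.Opens} (hV : IsAffineOpen V) (k : ℕ) : FinEx R k (f ⁻¹ᵁ V) (f.app V).hom := by
  have : IsNoetherianRing Γ(S, V) := IsLocallyNoetherian.component_noetherian ⟨V, hV⟩
  let q : ((f ⁻¹ᵁ V : X.Opens) : Scheme.{u}) ⟶ Spec Γ(S, V) := (f ∣_ V) ≫ hV.isoSpec.hom
  let : ((f ⁻¹ᵁ V : X.Opens) : Scheme.{u}).Over (Spec (CommRingCat.of Γ(S, V))) := ⟨q⟩
  have : IsProper (((f ⁻¹ᵁ V : X.Opens) : Scheme.{u}) ↘ Spec (CommRingCat.of Γ(S, V))) :=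
    inferInstanceAs (IsProper ((f ∣_ V) ≫ hV.isoSpec.hom))
  let R' := R.restrict (f ⁻¹ᵁ V).ι
  have hfin : Module.Finite Γ(S, V) (Coh.HH _ (R'.Z 0) k) :=
    finHH_of_chow (chow Γ(S, V)) (R'.Z 0) (isCoh_restrict _ hR) k
  have e : (f ⁻¹ᵁ V).ι ''ᵁ ⊤ = f ⁻¹ᵁ V := (f ⁻¹ᵁ V).ι_image_top
  have h3 : FinEx R' k ⊤
      ((((f ⁻¹ᵁ V).ι.appIso ⊤).hom).hom.comp ((rr e.le).hom.comp (f.app V).hom)) :=
    (@finEx_of_finite_HH _ Γ(S, V) _ _ R' k hfin).congr fun b => glob_opens f hV e.le b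
  refine (((finEx_restrict_iff _ R k ⊤ _).1 h3).of_eq e.symm).congr fun b => ?_
  exact (QCoh.rres_rres e.le e.ge _).trans (QCoh.rres_self _ _)

/-- `R^i f_*` of a coherent module is coherent for proper `f` -/
theorem isCoh_rpush (chow : ∀ (B : Type u) [CommRing B] [IsNoetherianRing B], ChowOver B)
    [IsLocallyNoetherian S] (f : X ⟶ S) [IsProper f] [HasInjectiveResolutions X.Modules]
    (M : X.Modules) (hM : Coh.IsCoh M) (i : ℕ) : Coh.IsCoh ((Coh.Rpush f i).obj M) := by
  let R := FRes.ofMod M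
  have : (R.Z 0).IsQuasicoherent := hM.1
  rcases i with _ | k
  · exact CohDev.isCoh_of_iso
      ((Scheme.Modules.pushforward f).rightDerivedZeroIsoSelf.app M).symm
      (isCoh_push f R fun V hV => finEx_of_proper chow f R hM hV 0)
  · exact CohDev.isCoh_of_iso (R.rpushIsoRc f k).symm
      (isCoh_Rc f R k fun V hV => finEx_of_proper chow f R hM hV (k + 1))

end Groth.Agent.ProperFin
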